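import Groth.Agent.MorLib.RingUnivHomeo

/-! Relative weak normalization and seminormalization of a ring map with dense image. -/

set_option autoImplicit false
universe u

namespace Groth.Agent.MorLib.RWN

open AlgebraicGeometry CategoryTheory
open Groth.Agent.MorLib.RUH

variable {A B : Type u} [CommRing A] [CommRing B] [Algebra A B]

theorem ker_le_nilradical [IsDominant (Spec.map (CommRingCat.ofHom (algebraMap A B)))] :
    RingHom.ker (algebraMap A B) ≤ nilradical A := by
  have h : DenseRange (PrimeSpectrum.comap (algebraMap A B)) :=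
    (inferInstance : IsDominant (Spec.map (CommRingCat.ofHom (algebraMap A B)))).denseRange
  exact (PrimeSpectrum.denseRange_comap_iff_ker_le_nilRadical _).1 h

theorem comap_surjective_of_integral {S : Type u} [CommRing S] (φ : A →+* S) (hi : φ.IsIntegral)
    (hk : RingHom.ker φ ≤ nilradical A) : Function.Surjective (PrimeSpectrum.comap φ) := by
  intro p
  have h1 : Function.Surjective (PrimeSpectrum.comap φ.kerLift) :=
    RingHom.IsIntegral.comap_surjective (RingHom.IsIntegral.tower_top (Ideal.Quotient.mk (RingHom.ker φ)) φ.kerLift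
      (by rwa [show φ.kerLift.comp (Ideal.Quotient.mk (RingHom.ker φ)) = φ from RingHom.ext fun _ => rfl]))
      φ.kerLift_injective
  obtain ⟨p', hp'⟩ : ∃ p' : PrimeSpectrum (A ⧸ RingHom.ker φ), PrimeSpectrum.comap (Ideal.Quotient.mk _) p' = p := by
    have : p ∈ PrimeSpectrum.zeroLocus (RingHom.ker φ : Set A) :=
      hk.trans (nilradical_le_prime p.asIdeal)
    have hr := range_comap_of_surjective _ (Ideal.Quotient.mk (RingHom.ker φ)) Ideal.Quotient.mk_surjective
    rw [Ideal.mk_ker] at hr
    rw [← hr] at this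
    exact this
  obtain ⟨q, rfl⟩ := h1 p'
  exact ⟨q, by rw [← hp']; rfl⟩

/-- Subalgebras that are integral and radicial over the base. -/
def IsWN (S : Subalgebra A B) : Prop :=
  (algebraMap A S).IsIntegral ∧ Radicial (algebraMap A S)

/-- Subalgebras with moreover trivial residue field extensions. -/
def IsSN (S : Subalgebra A B) : Prop :=
  IsWN S ∧ ∀ (q : Ideal S) [q.IsPrime] (b : S), ∃ a s : A, algebraMap A S s ∉ q ∧ algebraMap A S s * b - algebraMap A S a ∈ q

theorem isWN_iSup {ι : Type*} (S : ι → Subalgebra A B) (h : ∀ i, IsWN (S i)) : IsWN (⨆ i, S i) := by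
  constructor
  · intro x
    have hle : (⨆ i, S i) ≤ integralClosure A B := iSup_le fun i b hb => by
      exact IsIntegral.map (S i).val (show IsIntegral A (⟨b, hb⟩ : S i) from (h i).1 ⟨b, hb⟩)
    exact (isIntegral_algHom_iff (⨆ i, S i).val Subtype.val_injective).1 (hle x.2)
  · intro K _ f g hfg
    let C : Subalgebra A ↥(⨆ i, S i) :=
      { RingHom.eqLocus f g with algebraMap_mem' := fun a => congr($hfg a) }
    have hC : ∀ i, S i ≤ C.map (⨆ i, S i).val := fun i b hb => by
      have e := (h i).2 K (f.comp (Subalgebra.inclusion (le_iSup S i)).toRingHom)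
        (g.comp (Subalgebra.inclusion (le_iSup S i)).toRingHom) (RingHom.ext fun a => congr($hfg a))
      exact ⟨⟨b, le_iSup S i hb⟩, congr($e ⟨b, hb⟩), rfl⟩
    ext x
    obtain ⟨y, hy, hyx⟩ := iSup_le hC x.2
    obtain rfl : y = x := Subtype.ext hyx
    exact hy

theorem isSN_iSup {ι : Type*} (S : ι → Subalgebra A B) (h : ∀ i, IsSN (S i)) : IsSN (⨆ i, S i) := by
  refine ⟨isWN_iSup S fun i => (h i).1, fun q _ x => ?_⟩
  let T := ⨆ i, S i
  let P : T → Prop := fun b => ∃ a s : A, algebraMap A T s ∉ q ∧ algebraMap A T s * b - algebraMap A T a ∈ q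
  have hone : algebraMap A T 1 ∉ q := by
    rw [map_one]; exact fun h1 => ‹q.IsPrime›.ne_top ((Ideal.eq_top_iff_one _).2 h1)
  let C : Subalgebra A T :=
    { carrier := {b | P b}
      mul_mem' := by
        rintro b c ⟨a, s, hs, hb⟩ ⟨a', s', hs', hc⟩
        refine ⟨a * a', s * s', by rw [map_mul]; exact fun h2 => (‹q.IsPrime›.mem_or_mem h2).elim hs hs', ?_⟩
        have e : algebraMap A T (s * s') * (b * c) - algebraMap A T (a * a') =
            (algebraMap A T s * b - algebraMap A T a) * (algebraMap A T s' * c) +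
              algebraMap A T a * (algebraMap A T s' * c - algebraMap A T a') := by
          rw [map_mul, map_mul]; ring
        rw [e]
        exact add_mem (q.mul_mem_right _ hb) (q.mul_mem_left _ hc)
      add_mem' := by
        rintro b c ⟨a, s, hs, hb⟩ ⟨a', s', hs', hc⟩
        refine ⟨a * s' + a' * s, s * s', by rw [map_mul]; exact fun h2 => (‹q.IsPrime›.mem_or_mem h2).elim hs hs', ?_⟩
        have e : algebraMap A T (s * s') * (b + c) - algebraMap A T (a * s' + a' * s) =
            algebraMap A T s' * (algebraMap A T s * b - algebraMap A T a) +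
              algebraMap A T s * (algebraMap A T s' * c - algebraMap A T a') := by
          rw [map_mul, map_add, map_mul, map_mul]; ring
        rw [e]
        exact add_mem (q.mul_mem_left _ hb) (q.mul_mem_left _ hc)
      algebraMap_mem' := fun a => ⟨a, 1, hone, by rw [map_one, one_mul, sub_self]; exact q.zero_mem⟩ }
  have hC : ∀ i, S i ≤ C.map T.val := fun i b hb => by
    let j : S i →ₐ[A] T := Subalgebra.inclusion (le_iSup S i)
    obtain ⟨a, s, hs, hd⟩ := (h i).2 (q.comap j) ⟨b, hb⟩
    refine ⟨j ⟨b, hb⟩, ⟨a, s, ?_, ?_⟩, rfl⟩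
    · rw [Ideal.mem_comap, j.commutes] at hs; exact hs
    · rw [Ideal.mem_comap, map_sub, map_mul, j.commutes, j.commutes] at hd; exact hd
  obtain ⟨y, hy, hyx⟩ := iSup_le hC x.2
  obtain rfl : y = x := Subtype.ext hyx
  exact hy

theorem isUnivHomeo_of_isWN [IsDominant (Spec.map (CommRingCat.ofHom (algebraMap A B)))] (S : Subalgebra A B)
    (h : IsWN S) : FlatMor.IsUnivHomeo (Spec.map (CommRingCat.ofHom (algebraMap A S))) := by
  refine (isUnivHomeo_SpecMap_iff _).2 ⟨h.1, h.2, comap_surjective_of_integral _ h.1 fun a ha => ?_⟩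
  refine ker_le_nilradical (B := B) ?_
  rw [RingHom.mem_ker] at ha ⊢
  rw [IsScalarTower.algebraMap_apply A S B, ha, map_zero]

theorem isWN_range {C : Type u} [CommRing C] [Algebra A C] (g : C →ₐ[A] B)
    (hC : FlatMor.IsUnivHomeo (Spec.map (CommRingCat.ofHom (algebraMap A C)))) : IsWN g.range := by
  obtain ⟨hi, hr, -⟩ := (isUnivHomeo_SpecMap_iff _).1 hC
  constructor
  · intro x
    obtain ⟨c, rfl⟩ := g.rangeRestrict_surjective x
    exact IsIntegral.map g.rangeRestrict (show IsIntegral A c from hi c)
  · intro K _ f f' hff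
    refine RingHom.ext fun x => ?_
    obtain ⟨c, rfl⟩ := g.rangeRestrict_surjective x
    exact congr($(hr K (f.comp g.rangeRestrict.toRingHom) (f'.comp g.rangeRestrict.toRingHom)
      (RingHom.ext fun a => by
        show f (g.rangeRestrict (algebraMap A C a)) = f' (g.rangeRestrict (algebraMap A C a))
        rw [AlgHom.commutes]; exact congr($hff a))) c)

theorem isSN_range {C : Type u} [CommRing C] [Algebra A C] (g : C →ₐ[A] B)
    (hC : FlatMor.IsUnivHomeo (Spec.map (CommRingCat.ofHom (algebraMap A C))))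
    (hres : ∀ x : Spec (CommRingCat.of C),
      Function.Surjective ((Spec.map (CommRingCat.ofHom (algebraMap A C))).residueFieldMap x)) :
    IsSN g.range := by
  refine ⟨isWN_range g hC, fun q _ b => ?_⟩
  obtain ⟨c, rfl⟩ := g.rangeRestrict_surjective b
  obtain ⟨a, s, hs, hd⟩ := (residueFieldMap_surjective_iff _ _).1
    (hres ⟨q.comap g.rangeRestrict, inferInstance⟩) c
  refine ⟨a, s, ?_, ?_⟩
  · rw [Ideal.mem_comap, AlgHom.commutes] at hs; exact hs
  · rw [Ideal.mem_comap, map_sub, map_mul, AlgHom.commutes, AlgHom.commutes] at hd; exact hd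

end Groth.Agent.MorLib.RWN
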