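import Groth.Agent.MorLib.WeightPositive
import Groth.Agent.MorLib.WeightBdd
import Groth.Agent.ChevGen.Main

/-! The locus where a positive weighting has maximal fibre integral is affine over the base. -/

set_option autoImplicit false
set_option backward.isDefEq.respectTransparency.types false
universe u

namespace Groth.Agent.MorLib.WT

open AlgebraicGeometry CategoryTheory Limits Filter Topology
open Groth.Agent.MorLib.GF (pt pt_comp geomSum)

variable {X Y T V : Scheme.{u}}

theorem fibreIntegral_nonneg (π : T ⟶ V) [LocallyQuasiFinite π] [QuasiCompact π] {w : T → ℤ}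
    (hw : ∀ t, 0 < w t) (v : V) : 0 ≤ MoreMor.fibreIntegral π w v := by
  simpa using (le_fibreIntegral (ι := PEmpty.{1}) (π := π) (W := fun i => i.elim) (fun i => i.elim) hw
    (Scheme.Hom.finite_preimage_singleton π v) fun i => i.elim).1

theorem one_le_fibreIntegral (π : T ⟶ V) [LocallyQuasiFinite π] [QuasiCompact π] {w : T → ℤ}
    (hw : ∀ t, 0 < w t) (t : T) : 1 ≤ MoreMor.fibreIntegral π w (π t) := by
  have hle := le_fibreIntegral (ι := PEmpty.{1}) (π := π) (W := fun i => i.elim) (fun i => i.elim) hw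
    (Scheme.Hom.finite_preimage_singleton π (π t)) fun i => i.elim
  rcases (hle.1).lt_or_eq with h | h
  · simp only [Finset.univ_eq_empty, Finset.sum_empty] at h
    omega
  · exact (hle.2 h t rfl).choose.elim

/-- The fibre integral splits along a partition of the source into two opens. -/
theorem fibreIntegral_add (π : T ⟶ V) [LocallyQuasiFinite π] [QuasiCompact π] (W W' : T.Opens)
    [QuasiCompact W.ι] [QuasiCompact W'.ι]
    (hd : ∀ t, t ∈ W → t ∈ W' → False) (hc : ∀ t, t ∈ W ∨ t ∈ W') (w : T → ℤ) (v : V) :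
    fiOn π W w v + fiOn π W' w v = MoreMor.fibreIntegral π w v := by
  obtain ⟨Ω, _, _, yb, rfl⟩ := GF.exists_geomPoint v
  haveI := GF.finite_lifts π yb (Scheme.Hom.finite_preimage_singleton π _)
  rw [GF.fibreIntegral_eq π w yb (Scheme.Hom.finite_preimage_singleton π _)]
  unfold fiOn
  rw [GF.fibreIntegral_eq (W.ι ≫ π) _ yb (Scheme.Hom.finite_preimage_singleton _ _),
    GF.fibreIntegral_eq (W'.ι ≫ π) _ yb (Scheme.Hom.finite_preimage_singleton _ _),
    geomSum_open, geomSum_open, ← finsum_mem_union _ (Set.toFinite _) (Set.toFinite _)]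
  · rw [show {δ : Lifts π yb | pt δ.1 ∈ W} ∪ {δ : Lifts π yb | pt δ.1 ∈ W'} = Set.univ from
      Set.eq_univ_of_forall fun δ => hc _, finsum_mem_univ]
    rfl
  · exact Set.disjoint_left.2 fun δ h h' => hd _ h h'

/-- Over an affine base the maximal locus of a positive weighting with affine source is affine. -/
theorem isAffineOpen_level : ∀ (d : ℕ) (X Y : Scheme.{u}) [IsAffine X] [IsAffine Y] (f : X ⟶ Y)
    [LocallyQuasiFinite f] [LocallyOfFiniteType f] (w : X → ℤ), MoreMor.IsWeighting f w →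
    (∀ x, 0 < w x) → (∀ y : Y, MoreMor.fibreIntegral f w y ≤ d) →
    ∀ U : Y.Opens, (U : Set Y) = {y : ↑Y | MoreMor.fibreIntegral f w y = (d : ℤ)} → IsAffineOpen U := by
  intro d
  induction d using Nat.strong_induction_on with
  | _ d ih =>
  intro X Y _ _ f _ _ w hw hpos hmax U hU
  rcases Nat.eq_zero_or_pos d with rfl | hd
  · rw [show U = ⊤ from top_le_iff.1 fun y _ => by
      show y ∈ (U : Set Y)
      rw [hU]; exact le_antisymm (hmax y) (fibreIntegral_nonneg f hpos y)]
    exact isAffineOpen_top _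
  haveI : QuasiCompact f := inferInstance
  have hfin : ∀ y : Y, (f ⁻¹' {y}).Finite := fun y => Scheme.Hom.finite_preimage_singleton f y
  obtain ⟨hYd, hF⟩ := finite_over_max hfin hw hpos (d : ℤ) hmax
  have hUeq : U = ⟨_, hYd⟩ := TopologicalSpace.Opens.ext hU
  haveI : IsFinite (f ∣_ U) := by rw [hUeq]; exact hF
  haveI : Surjective (f ∣_ U) := ⟨fun ⟨y, hy⟩ => by
    have hy' : MoreMor.fibreIntegral f w y = d := by
      have : y ∈ (U : Set Y) := hy
      rwa [hU] at this
    obtain ⟨x, hx⟩ : ∃ x, f x = y := by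
      by_contra hne
      push Not at hne
      have : MoreMor.fibreIntegral f w y = 0 := by
        haveI : IsEmpty {x : X // f x = y} := ⟨fun x => hne x.1 x.2⟩
        exact finsum_of_isEmpty _
      omega
    exact ⟨⟨x, show f x ∈ U by rw [hx]; exact hy⟩, Subtype.ext (by
      rw [morphismRestrict_base]; exact hx)⟩⟩
  -- it suffices that the preimage is affine
  suffices IsAffineHom (f ⁻¹ᵁ U).ι by
    haveI : IsAffine (f ⁻¹ᵁ U : Scheme.{u}) := isAffine_of_isAffineHom (f ⁻¹ᵁ U).ι
    haveI : (U : Scheme.{u}).IsSeparated := by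
      constructor
      rw [show terminal.from (U : Scheme.{u}) = U.ι ≫ terminal.from Y from terminal.hom_ext _ _]
      infer_instance
    exact ChevGen.isAffine_of_finite_surjective (f ∣_ U)
  -- base change along f
  let π := pullback.snd f f
  let w' : ↑(pullback f f) → ℤ := w ∘ ⇑(pullback.fst f f)
  haveI : LocallyQuasiFinite π := MorphismProperty.pullback_snd _ _ ‹_›
  haveI : LocallyOfFiniteType π := MorphismProperty.pullback_snd _ _ ‹_›
  have hw' : MoreMor.IsWeighting π w' := isWeighting_baseChange hw (IsPullback.of_hasPullback f f)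
  have hpos' : ∀ t, 0 < w' t := fun t => hpos _
  have hint : ∀ x, MoreMor.fibreIntegral π w' x = MoreMor.fibreIntegral f w (f x) := fun x =>
    GF.fibreIntegral_baseChange (IsPullback.of_hasPullback f f) w x (hfin _)
  -- étale locally
  have key : ∀ x : X, ∃ O : X.Opens, x ∈ O ∧ IsAffineHom ((f ⁻¹ᵁ U).ι ∣_ O) := by
    intro x
    obtain ⟨Ω, _, _, yb, hyb⟩ := GF.exists_geomPoint x
    obtain ⟨γ, -⟩ := exists_lift_pt π yb (pullback.lift (𝟙 X) (𝟙 X) rfl x)
      (by rw [← Scheme.Hom.comp_apply, pullback.lift_snd, hyb]; rfl)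
    obtain ⟨T', V', k, π', h, vb', W, δ, hc, he, hvb, hp⟩ :=
      exists_decomp π yb (ι := PUnit.{u + 1}) fun _ => γ
    haveI := he
    haveI : LocallyQuasiFinite π' := MorphismProperty.of_isPullback hc inferInstance
    haveI : LocallyOfFiniteType π' := MorphismProperty.of_isPullback hc inferInstance
    haveI : IsSeparated π' := MorphismProperty.of_isPullback hc inferInstance
    haveI : IsAffineHom π' := MorphismProperty.of_isPullback hc inferInstance
    let Wp := W PUnit.unit
    have hWf : IsFinite (Wp.ι ≫ π') := (hp PUnit.unit).1.finite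
    have hwt : MoreMor.IsWeighting π' (w' ∘ ⇑k) := isWeighting_baseChange hw' hc
    have hlc := weighting_apply hw' hc hWf
    -- an affine neighbourhood with constant integral on the piece
    let v := pt vb'
    let c : ℤ := fiOn π' Wp (w' ∘ ⇑k) v
    have hc1 : 1 ≤ c := by
      have := le_fiOn hWf (w := w' ∘ ⇑k) (fun t => (hpos' _).le) (hp PUnit.unit).1.mem
      rw [← pt_comp, (hp PUnit.unit).1.over] at this
      exact le_trans (hpos' _) this
    obtain ⟨_, ⟨N₀, hN, rfl⟩, hvN, hNsub⟩ := V'.isBasis_affineOpens.exists_subset_of_mem_open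
      (show v ∈ fiOn π' Wp (w' ∘ ⇑k) ⁻¹' {c} from rfl) (hlc.isOpen_fiber c)
    let N : V'.Opens := N₀
    let j : (N : Scheme.{u}) ⟶ X := N.ι ≫ h
    haveI : Etale j := inferInstanceAs (Etale (N.ι ≫ h))
    haveI : IsAffine (N : Scheme.{u}) := hN
    haveI : IsAffine (π' ⁻¹ᵁ N : Scheme.{u}) := hN.preimage π'
    let TN := π' ∣_ N
    have hcN : IsPullback ((π' ⁻¹ᵁ N).ι ≫ k) TN π j :=
      (isPullback_morphismRestrict π' N).flip.paste_horiz hc
    haveI : LocallyQuasiFinite TN := MorphismProperty.of_isPullback hcN inferInstance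
    haveI : LocallyOfFiniteType TN := MorphismProperty.of_isPullback hcN inferInstance
    haveI : IsSeparated TN := inferInstance
    let wN : ↑(π' ⁻¹ᵁ N : Scheme.{u}) → ℤ := w' ∘ ⇑((π' ⁻¹ᵁ N).ι ≫ k)
    have hwN : MoreMor.IsWeighting TN wN := isWeighting_baseChange hw' hcN
    let A : (π' ⁻¹ᵁ N : Scheme.{u}).Opens := (π' ⁻¹ᵁ N).ι ⁻¹ᵁ Wp
    have hcA : IsPullback ((π' ⁻¹ᵁ N).ι ∣_ Wp) (A.ι ≫ TN) (Wp.ι ≫ π') N.ι :=
      (isPullback_morphismRestrict (π' ⁻¹ᵁ N).ι Wp).paste_vert (isPullback_morphismRestrict π' N).flip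
    have hA : IsFinite (A.ι ≫ TN) := MorphismProperty.of_isPullback hcA hWf
    have hAcl : IsClosed (A : Set (π' ⁻¹ᵁ N : Scheme.{u})) := isClosed_of_isFinite hA
    let B : (π' ⁻¹ᵁ N : Scheme.{u}).Opens := ⟨(A : Set (π' ⁻¹ᵁ N : Scheme.{u}))ᶜ, hAcl.isOpen_compl⟩
    haveI : IsClosedImmersion B.ι :=
      IsClosedImmersion.of_isPreimmersion _ (by rw [Scheme.Opens.range_ι]; exact A.2.isClosed_compl)
    haveI : IsClosedImmersion A.ι :=
      IsClosedImmersion.of_isPreimmersion _ (by rw [Scheme.Opens.range_ι]; exact hAcl)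
    haveI : IsAffine (B : Scheme.{u}) := isAffine_of_isAffineHom B.ι
    have hsum : ∀ n : (N : Scheme.{u}), MoreMor.fibreIntegral π w' (j n) =
        c + MoreMor.fibreIntegral (B.ι ≫ TN) (fun b => wN (B.ι b)) n := by
      intro n
      rw [← GF.fibreIntegral_baseChange hcN w' n (Scheme.Hom.finite_preimage_singleton π _),
        ← fibreIntegral_add TN A B (fun t h1 h2 => h2 h1) (fun t => em _) (w' ∘ ⇑((π' ⁻¹ᵁ N).ι ≫ k)) n]
      congr 1
      have := fiOn_baseChange (isPullback_morphismRestrict π' N).flip (W := Wp) hWf (w' ∘ ⇑k) n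
      refine this.trans ?_
      exact hNsub n.2
    haveI : LocallyQuasiFinite (B.ι ≫ TN) := inferInstance
    have hBw : MoreMor.IsWeighting (B.ι ≫ TN) (fun b => wN (B.ι b)) := isWeighting_restrict hwN B
    have hle : ∀ n, MoreMor.fibreIntegral π w' (j n) ≤ d := fun n => (hint _).trans_le (hmax _)
    have hcd : c ≤ d := by
      have h1 := hsum ⟨v, hvN⟩
      have h2 := hle ⟨v, hvN⟩
      have h3 := fibreIntegral_nonneg (B.ι ≫ TN) (w := fun b => wN (B.ι b)) (fun b => hpos' _) ⟨v, hvN⟩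
      omega
    have haff : IsAffineOpen (j ⁻¹ᵁ (f ⁻¹ᵁ U)) := by
      refine ih ((d : ℤ) - c).toNat (by omega) (B : Scheme.{u}) (N : Scheme.{u}) (B.ι ≫ TN) _ hBw
        (fun b => hpos' _) (fun n => ?_) _ ?_
      · have h1 := hsum n
        have h2 := hle n
        omega
      · ext n
        show f (j n) ∈ (U : Set Y) ↔ _
        rw [hU]
        show MoreMor.fibreIntegral f w (f (j n)) = _ ↔ MoreMor.fibreIntegral _ _ n = _
        rw [← hint, hsum n]
        omega
    -- descend
    let O : X.Opens := ⟨Set.range j, j.isOpenMap.isOpen_range⟩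
    refine ⟨O, ⟨⟨v, hvN⟩, ?_⟩, ?_⟩
    · rw [← hyb, ← hvb]
      exact (Scheme.Hom.comp_apply N.ι h _).trans (pt_comp vb' h).symm
    let g : (N : Scheme.{u}) ⟶ O := IsOpenImmersion.lift O.ι j (by rw [Scheme.Opens.range_ι]; exact subset_rfl)
    have hgι : g ≫ O.ι = j := IsOpenImmersion.lift_fac ..
    haveI : Surjective g := ⟨fun ⟨_, a, rfl⟩ => ⟨a, O.ι.isOpenEmbedding.injective (by
      rw [← Scheme.Hom.comp_apply, hgι]; rfl)⟩⟩
    haveI : Etale g := by
      haveI : Etale (g ≫ O.ι) := by rw [hgι]; infer_instance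
      exact Etale.of_comp g O.ι
    haveI : QuasiSeparatedSpace (O : Scheme.{u}) := O.2.isOpenEmbedding_subtypeVal.quasiSeparatedSpace
    haveI : QuasiCompact g := quasiCompact_of_compactSpace g
    haveI := Groth.Agent.EtFound.fpqc_isAffineHom.{u}
    refine MorphismProperty.of_isPullback_of_descendsAlong (P := @IsAffineHom)
      (Q := @Surjective ⊓ @Flat ⊓ @QuasiCompact)
      (IsPullback.of_hasPullback ((f ⁻¹ᵁ U).ι ∣_ O) g).flip ⟨⟨inferInstance, inferInstance⟩, inferInstance⟩ ?_
    have hP : IsPullback (pullback.fst ((f ⁻¹ᵁ U).ι ∣_ O) g ≫ ((f ⁻¹ᵁ U).ι ⁻¹ᵁ O).ι)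
        (pullback.snd ((f ⁻¹ᵁ U).ι ∣_ O) g) (f ⁻¹ᵁ U).ι j := by
      rw [← hgι]
      exact (IsPullback.of_hasPullback _ _).paste_horiz (isPullback_morphismRestrict (f ⁻¹ᵁ U).ι O).flip
    have hQ := (isPullback_morphismRestrict j (f ⁻¹ᵁ U))
    haveI : IsAffine (j ⁻¹ᵁ (f ⁻¹ᵁ U) : Scheme.{u}) := haff
    have hiso := hP.isoIsPullback_hom_snd _ _ hQ
    rw [← hiso]
    haveI : IsAffineHom (j ⁻¹ᵁ (f ⁻¹ᵁ U)).ι := by
      haveI : IsAffineHom ((j ⁻¹ᵁ (f ⁻¹ᵁ U)).ι ≫ terminal.from (N : Scheme.{u})) := by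
        rw [show (j ⁻¹ᵁ (f ⁻¹ᵁ U)).ι ≫ terminal.from (N : Scheme.{u}) = terminal.from _ from
          terminal.hom_ext _ _]
        infer_instance
      exact IsAffineHom.of_comp _ (terminal.from (N : Scheme.{u}))
    infer_instance
  choose O hxO hO using key
  exact IsZariskiLocalAtTarget.of_iSup_eq_top (P := @IsAffineHom) O
    (top_le_iff.1 fun x _ => TopologicalSpace.Opens.mem_iSup.2 ⟨x, hxO x⟩) hO

/-- For an affine source and separated base, the maximal locus is affine. -/
theorem isAffine_max_of_surjective [IsAffine X] [Y.IsSeparated] (f : X ⟶ Y) [LocallyQuasiFinite f]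
    [LocallyOfFiniteType f] [Surjective f] {w : X → ℤ} (hw : MoreMor.IsWeighting f w)
    (hpos : ∀ x, 0 < w x) (d : ℤ) (hmax : ∀ y : Y, MoreMor.fibreIntegral f w y ≤ d) (U : Y.Opens)
    (hU : (U : Set Y) = {y : ↑Y | MoreMor.fibreIntegral f w y = d}) :
    IsAffineOpen U ∧ IsAffineHom U.ι := by
  haveI : IsAffineHom f := by
    haveI : IsAffineHom (f ≫ terminal.from Y) := by
      rw [show f ≫ terminal.from Y = terminal.from X from terminal.hom_ext _ _]; infer_instance
    exact IsAffineHom.of_comp f (terminal.from Y)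
  have hfin : ∀ y : Y, (f ⁻¹' {y}).Finite := fun y => Scheme.Hom.finite_preimage_singleton f y
  haveI : IsAffineHom U.ι := by
    refine (isAffineHom_iff U.ι).2 fun O hO => ?_
    haveI : IsAffine (O : Scheme.{u}) := hO
    haveI : IsAffine (f ⁻¹ᵁ O : Scheme.{u}) := hO.preimage f
    haveI : LocallyQuasiFinite (f ∣_ O) :=
      MorphismProperty.of_isPullback (isPullback_morphismRestrict f O).flip inferInstance
    haveI : LocallyOfFiniteType (f ∣_ O) :=
      MorphismProperty.of_isPullback (isPullback_morphismRestrict f O).flip inferInstance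
    have hwO := isWeighting_baseChange hw (isPullback_morphismRestrict f O).flip
    have hint : ∀ y, MoreMor.fibreIntegral (f ∣_ O) (w ∘ ⇑(f ⁻¹ᵁ O).ι) y =
        MoreMor.fibreIntegral f w (O.ι y) := fun y =>
      GF.fibreIntegral_baseChange (isPullback_morphismRestrict f O).flip w y (hfin _)
    have haff : IsAffineOpen (O.ι ⁻¹ᵁ U) := by
      by_cases hd : 0 ≤ d
      · refine isAffineOpen_level d.toNat _ _ (f ∣_ O) _ hwO (fun _ => hpos _)
          (fun y => ?_) _ ?_
        · rw [hint, Int.toNat_of_nonneg hd]; exact hmax _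
        · ext y
          show O.ι y ∈ (U : Set Y) ↔ _
          rw [hU, Int.toNat_of_nonneg hd]
          show _ ↔ MoreMor.fibreIntegral (f ∣_ O) (w ∘ ⇑(f ⁻¹ᵁ O).ι) y = d
          rw [hint]
          rfl
      · rw [show O.ι ⁻¹ᵁ U = ⊥ from le_bot_iff.1 fun y hy => by
          have : O.ι y ∈ (U : Set Y) := hy
          rw [hU] at this
          have := hmax (O.ι y)
          have := fibreIntegral_nonneg f hpos (O.ι y)
          exact absurd (show 0 ≤ d by omega) hd]
        exact isAffineOpen_bot _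
    have h1 : IsAffineOpen (O.ι ''ᵁ (O.ι ⁻¹ᵁ U)) := haff.image_of_isOpenImmersion _
    rw [Scheme.Hom.image_preimage_eq_opensRange_inf, Scheme.Opens.opensRange_ι] at h1
    rw [← U.ι.isAffineOpen_iff_of_isOpenImmersion, Scheme.Hom.image_preimage_eq_opensRange_inf,
      Scheme.Opens.opensRange_ι, inf_comm]
    exact h1
  refine ⟨?_, inferInstance⟩
  haveI : IsAffineHom (f ⁻¹ᵁ U).ι :=
    MorphismProperty.of_isPullback (isPullback_morphismRestrict f U) (inferInstance : IsAffineHom U.ι)
  haveI : IsAffine (f ⁻¹ᵁ U : Scheme.{u}) := isAffine_of_isAffineHom (f ⁻¹ᵁ U).ι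
  haveI : Surjective (f ∣_ U) := ⟨fun ⟨y, hy⟩ => by
    obtain ⟨x, hx⟩ := f.surjective y
    exact ⟨⟨x, show f x ∈ U by rw [hx]; exact hy⟩, Subtype.ext (by
      rw [morphismRestrict_base]; exact hx)⟩⟩
  obtain ⟨hYd, hF⟩ := finite_over_max hfin hw hpos d hmax
  haveI : IsFinite (f ∣_ U) := by
    rw [show U = ⟨_, hYd⟩ from TopologicalSpace.Opens.ext hU]; exact hF
  haveI : (U : Scheme.{u}).IsSeparated := by
    constructor
    rw [show terminal.from (U : Scheme.{u}) = U.ι ≫ terminal.from Y from terminal.hom_ext _ _]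
    infer_instance
  exact ChevGen.isAffine_of_finite_surjective (f ∣_ U)

end Groth.Agent.MorLib.WT
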